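import Cfsg.Agent.Lib.FiMax.Tab
import Cfsg.Agent.Lib.FiMax.LL

/-!
# The checks for the normalizer of the element of order three
-/

set_option autoImplicit false
set_option maxRecDepth 100000
set_option maxHeartbeats 0
set_option linter.style.longLine false

namespace Cfsg.Agent.Lib.FiMax

open Cfsg Cfsg.Agent.Lib.PermComp Cfsg.Agent.Lib.PermComp.OutP
open Cfsg.Agent.Lib.PermComp.Core (force force_eq ifB ifB_eq_true)
open Cfsg.Agent.Lib.PermComp.Kron (rangeAll rangeAll_spec)
open Cfsg.Agent.Lib.PermComp.OutP.Fi23 (n F Bs)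
open Cfsg.Agent.Lib.PermComp.OutP.M23T.O8 (V orB notB pvv orB_eq_true notB_eq_true)
open Cfsg.Agent.Lib.PermComp.OutP.M23T.Z5

/-- A word in the members of the class, by value. -/
noncomputable def vW (l : List Nat) : Nat → Nat :=
  List.rec (fun q => q) (fun c _ ih q => force c fun i => force (V i q) ih) l

/-- The word of a commutator. -/
def cw (a b : List Nat) : List Nat := b.reverse ++ (a.reverse ++ (b ++ a))

/-- The word of a balanced nest of commutators. -/
def nest : Nat → (Nat → List Nat) → Nat → List Nat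
  | 0, L, i => L i
  | k + 1, L, i => cw (nest k L (2 * i)) (nest k L (2 * i + 1))

noncomputable def agr (l m : List Nat) : Bool := agree (vW l) (vW m) Bs

noncomputable def zI : List Nat := zW.map sI

/-- The leaves of the top nest. -/
def Ltop : List (List Nat) := [[11920, 18951], [20412, 380], [5361, 28991, 5257], [20246, 3053, 13378], [12285, 12238, 28099], [9743, 5884, 29666], [5361, 28991, 5257], [22954, 21330]]

def Lt (i : Nat) : List Nat := Ltop.getD i []

noncomputable def leafOK (l : List Nat) : Bool :=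
  orB (agr (zI ++ l) (l ++ zI)) (agr (zI ++ l) (l ++ zI.reverse))

theorem c_leaf : Ltop.all leafOK = true := by decide +kernel

noncomputable def W3 : List Nat := nest 3 Lt 0

theorem c_top : agr (W3 ++ (W3 ++ W3)) [sI 0] = true := by decide +kernel

def Rbot : List Nat := [46, 106, 320, 104, 212, 84, 80, 57, 148, 160, 241, 90, 125, 236, 14, 238, 174, 262, 84, 85, 246, 161, 148, 160, 158, 247, 312, 185, 196, 152, 47, 159, 93, 100, 125, 236, 74, 135, 141, 279, 158, 247, 312, 185, 196, 152, 47, 159, 312, 185, 206, 9, 127, 26, 162, 156, 125, 236, 14, 238, 64, 67, 6, 110]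

noncomputable def Lb (i : Nat) : List Nat := [sI (Nat.mod (Rbot.getD i 0) 324)]

theorem c_bot : Nat.beq (vW (nest 6 Lb 0) 1) 1 = false := by decide +kernel

noncomputable def fT (q : Nat) : Nat := Nat.land (Nat.shiftRight FT_T (Nat.mul q 32)) 4294967295
noncomputable def fL (q : Nat) : Nat := Nat.land (fT q) 7
noncomputable def fK (q : Nat) : Nat := Nat.land (Nat.shiftRight (fT q) 3) 15
noncomputable def fG (q : Nat) : Nat := Nat.land (Nat.shiftRight (fT q) 7) 511
noncomputable def fP (q : Nat) : Nat := Nat.shiftRight (fT q) 16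
noncomputable def rt (l : Nat) : Nat := [sP 0, 1, 9, 10, 13, 28].getD l 0

noncomputable def pF (q : Nat) : Bool :=
  ifB (Nat.blt (fL q) 6) <| ifB (orB (notB (Nat.beq (fL q) 0)) (Nat.beq (rS zW q) q))
    (orB (ifB (Nat.beq (fK q) 0) (Nat.beq q (rt (fL q))))
      (ifB (Nat.blt (fG q) 324) (ifB (Nat.beq (vS (fG q) q) (fP q))
        (ifB (Nat.blt (fK (fP q)) (fK q)) (Nat.beq (fL (fP q)) (fL q))))))

theorem c_for0 : rangeAll pF 0 8000 = true := by decide +kernel
theorem c_for1 : rangeAll pF 8000 8000 = true := by decide +kernel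
theorem c_for2 : rangeAll pF 16000 8000 = true := by decide +kernel
theorem c_for3 : rangeAll pF 24000 7671 = true := by decide +kernel

theorem c_for : ∀ q, q < 31671 → pF q = true := by
  intro q hq
  by_cases h0 : q < 8000
  · exact rangeAll_spec c_for0 q (Nat.zero_le _) (by omega)
  by_cases h1 : q < 16000
  · exact rangeAll_spec c_for1 q (by omega) (by omega)
  by_cases h2 : q < 24000
  · exact rangeAll_spec c_for2 q (by omega) (by omega)
  · exact rangeAll_spec c_for3 q (by omega) (by omega)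

theorem c_cm : rangeAll (fun q => rangeAll (fun r => orB (Nat.blt r 36) (notB (Nat.beq (vS q (sP r)) (sP r)))) 0 324) 0 36 = true := by decide +kernel

theorem c_LL : rangeAll (fun p => rangeAll (fun q => Nat.beq (vS p (sP q)) (sP (LL p q))) 0 36) 0 36 = true := by decide +kernel

theorem c_inj : rangeAll (fun r => rangeAll (fun s => orB (Nat.beq r s) (notB (Nat.beq (sP r) (sP s)))) 0 324) 0 324 = true := by decide +kernel

def sgw (r : Nat) : Nat :=
  if r = 272 then 257 else if r = 192 then 184 else if r = 75 then 69 else if r = 256 then 245 else 172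

theorem c_sg : ∀ r ∈ SgR, cmpW [sgw r, r, sgw r] [0] = true := by decide +kernel

theorem c_ql : ∀ k : Fin 8, ∀ c ∈ qlW k.1, c < 36 := by decide

theorem c_sl : ∀ r ∈ SgR, sgw r < 324 := by decide

/-! ### The witnesses -/

theorem c_rt : fL (sP 0) = 0 ∧ rt 1 = 1 ∧ rt 2 = 9 ∧ rt 3 = 10 ∧ rt 4 = 13 ∧ rt 5 = 28 := by decide +kernel

theorem w_1_1_2 : fL (pvv 299) = 1 ∧ fL 29014 = 1 ∧ 29014 < 31671 ∧ fL (V 299 29014) = 2 := by decide +kernel
theorem w_1_1_3 : fL (pvv 22602) = 1 ∧ fL 3911 = 1 ∧ 3911 < 31671 ∧ fL (V 22602 3911) = 3 := by decide +kernel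
theorem w_1_1_4 : fL (pvv 26176) = 1 ∧ fL 8659 = 1 ∧ 8659 < 31671 ∧ fL (V 26176 8659) = 4 := by decide +kernel
theorem w_1_1_5 : fL (pvv 1514) = 1 ∧ fL 28966 = 1 ∧ 28966 < 31671 ∧ fL (V 1514 28966) = 5 := by decide +kernel
theorem w_3_5_1 : fL (pvv 11340) = 3 ∧ fL 16072 = 5 ∧ 16072 < 31671 ∧ fL (V 11340 16072) = 1 := by decide +kernel
theorem w_4_3_1 : fL (pvv 27081) = 4 ∧ fL 16901 = 3 ∧ 16901 < 31671 ∧ fL (V 27081 16901) = 1 := by decide +kernel
theorem w_5_4_1 : fL (pvv 10407) = 5 ∧ fL 7928 = 4 ∧ 7928 < 31671 ∧ fL (V 10407 7928) = 1 := by decide +kernel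
theorem w_2_4_1 : fL (pvv 26626) = 2 ∧ fL 10269 = 4 ∧ 10269 < 31671 ∧ fL (V 26626 10269) = 1 := by decide +kernel

theorem m_3 : fL (vW [4224, 23861] (rt 3)) = 5 := by decide +kernel
theorem m_4 : fL (vW [4224, 23861] (rt 4)) = 3 := by decide +kernel
theorem m_5 : fL (vW [4224, 23861] (rt 5)) = 4 := by decide +kernel
theorem m_2 : fL (vW [6712, 4995] (rt 2)) = 4 := by decide +kernel
theorem mc_6712 : agr (zI ++ [6712, 4995]) ([6712, 4995] ++ zI) = true := by decide +kernel
theorem mc_4224 : agr (zI ++ [4224, 23861]) ([4224, 23861] ++ zI) = true := by decide +kernel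

theorem c_rtlt : ∀ l, l < 6 → rt l < 31671 := by decide +kernel

end Cfsg.Agent.Lib.FiMax
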